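import Cfsg.Agent.Lib.M24Join.Data

/-!
The lists of the possible families at 5 are complete and stored.
-/

set_option maxRecDepth 100000

namespace Cfsg.Agent.M24Join

theorem listF_ok : checkU 5 1 4 [1] listF = true := by decide +kernel

theorem listW_ok : checkW listW = true := by decide +kernel

theorem storedT_ok : checkT listT treeT = true := by decide +kernel

theorem storedFW_ok : checkFW listF listW treeF = true := by decide +kernel

theorem storedFQ_ok : checkFQ listF listQ treeF = true := by decide +kernel

end Cfsg.Agent.M24Join
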