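import Cfsg.Agent.Lib.M24Join.Data

/-!
The list of the possible families at 5 of five members with residue one is complete.
-/

set_option maxRecDepth 100000

namespace Cfsg.Agent.M24Join

theorem listQ_ok : checkFive 5 1 listQ = true := by decide +kernel

end Cfsg.Agent.M24Join
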