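import Cfsg.Agent.Lib.M24Join.Data

/-!
The search finds no other possibility for the small degrees: parts 12 and 13.
-/

set_option maxRecDepth 100000

namespace Cfsg.Agent.M24Join

open Cfsg.Agent.Golay.Local (allF)

theorem run_part12 : allF (fun u => run u treeP treeS treeD treeT)
    (((treeF.parts 5).drop 36).take 3) = true := by decide +kernel

theorem run_part13 : allF (fun u => run u treeP treeS treeD treeT)
    (((treeF.parts 5).drop 39).take 3) = true := by decide +kernel

end Cfsg.Agent.M24Join
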