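import Cfsg.Agent.Lib.M24Join.RunPart0
import Cfsg.Agent.Lib.M24Join.RunPart1
import Cfsg.Agent.Lib.M24Join.RunPart2
import Cfsg.Agent.Lib.M24Join.RunPart3
import Cfsg.Agent.Lib.M24Join.RunPart4
import Cfsg.Agent.Lib.M24Join.RunPart5
import Cfsg.Agent.Lib.M24Join.RunPart6
import Cfsg.Agent.Lib.M24Join.RunPart7
import Cfsg.Agent.Lib.M24Join.RunPart8
import Cfsg.Agent.Lib.M24Join.RunPart9
import Cfsg.Agent.Lib.M24Join.RunPart10

/-!
The search finds no other possibility for the small degrees.
-/

set_option maxRecDepth 100000

namespace Cfsg.Agent.M24Join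

open Cfsg.Agent.Golay.Local (allF)

theorem run_ok : run treeF treeP treeS treeD treeT = true := by
  refine Tree.allT_of_parts (n := 5) fun u hu => ?_
  have hlen : (treeF.parts 5).length ≤ 66 := by decide +kernel
  obtain ⟨i, hi, rfl⟩ := List.mem_iff_getElem.1 hu
  have key : ∀ j, allF (fun u => run u treeP treeS treeD treeT) (((treeF.parts 5).drop (3 * j)).take 3) = true →
      3 * j ≤ i → i < 3 * j + 3 → run (treeF.parts 5)[i] treeP treeS treeD treeT = true := by
    intro j hj h1 h2
    refine Golay.Local.allF_iff.1 hj _ (List.mem_iff_getElem.2 ⟨i - 3 * j, ?_, ?_⟩)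
    · rw [List.length_take, List.length_drop]; omega
    · rw [List.getElem_take, List.getElem_drop]
      congr 1
      omega
  by_cases c0 : i < 3
  · exact key 0 run_part0 (by omega) (by omega)
  by_cases c1 : i < 6
  · exact key 1 run_part1 (by omega) (by omega)
  by_cases c2 : i < 9
  · exact key 2 run_part2 (by omega) (by omega)
  by_cases c3 : i < 12
  · exact key 3 run_part3 (by omega) (by omega)
  by_cases c4 : i < 15
  · exact key 4 run_part4 (by omega) (by omega)
  by_cases c5 : i < 18
  · exact key 5 run_part5 (by omega) (by omega)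
  by_cases c6 : i < 21
  · exact key 6 run_part6 (by omega) (by omega)
  by_cases c7 : i < 24
  · exact key 7 run_part7 (by omega) (by omega)
  by_cases c8 : i < 27
  · exact key 8 run_part8 (by omega) (by omega)
  by_cases c9 : i < 30
  · exact key 9 run_part9 (by omega) (by omega)
  by_cases c10 : i < 33
  · exact key 10 run_part10 (by omega) (by omega)
  by_cases c11 : i < 36
  · exact key 11 run_part11 (by omega) (by omega)
  by_cases c12 : i < 39
  · exact key 12 run_part12 (by omega) (by omega)
  by_cases c13 : i < 42
  · exact key 13 run_part13 (by omega) (by omega)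
  by_cases c14 : i < 45
  · exact key 14 run_part14 (by omega) (by omega)
  by_cases c15 : i < 48
  · exact key 15 run_part15 (by omega) (by omega)
  by_cases c16 : i < 51
  · exact key 16 run_part16 (by omega) (by omega)
  by_cases c17 : i < 54
  · exact key 17 run_part17 (by omega) (by omega)
  by_cases c18 : i < 57
  · exact key 18 run_part18 (by omega) (by omega)
  by_cases c19 : i < 60
  · exact key 19 run_part19 (by omega) (by omega)
  by_cases c20 : i < 63
  · exact key 20 run_part20 (by omega) (by omega)
  by_cases c21 : i < 66
  · exact key 21 run_part21 (by omega) (by omega)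
  omega

end Cfsg.Agent.M24Join
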