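import Cfsg.Agent.Lib.M24Join.Data

/-!
The lists of the possible families at 7 are complete.
-/

set_option maxRecDepth 100000

namespace Cfsg.Agent.M24Join

theorem checkP_ok : check7 2 1 4 1 [1] treeP = true := by decide +kernel

theorem checkS_ok : check7 3 1 4 1 [] treeS = true := by decide +kernel

theorem checkD_ok : check7 3 2 1 2 [] treeD = true := by decide +kernel

end Cfsg.Agent.M24Join
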