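import Cfsg.Agent.Lib.M12Uniq.DegreeSearch
import Cfsg.Agent.Lib.Golay.Local.Fast
import Cfsg.Agent.Lib.M23Uniq.DegreeCheck

/-!
The join of the families at 7 and at 5 of a group of order 244823040: the functions evaluated by the kernel.
-/

namespace Cfsg.Agent.M24Join

open Cfsg.Agent.Golay.Local (allF anyF)
open Cfsg.Agent.M12Uniq (multiCombos)

noncomputable section

/-- The order of the group. -/
def NN : ℕ := 244823040

/-- The possible degrees. -/
def pool : List ℕ :=
  [1, 11, 12, 22, 23, 45, 230, 231, 252, 253, 264, 276, 483, 495, 506, 528, 540, 736, 759, 770, 990, 1012,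
    1024, 1035, 1242, 1265, 1288, 1518, 1540, 1760, 1771, 2024, 2277, 2530, 2760, 2772, 3024, 3036, 3312,
    3520, 3542, 3795, 3840, 4048, 4554, 4830, 5060, 5313, 5544, 5796, 6072, 6336, 6831, 7084, 7360, 7590,
    8096, 8832, 8855, 9108, 9856, 10120, 10395, 10626, 11385, 11880, 12144, 12420, 12672, 12880, 13662,
    14168, 15180, 15456]

/-- Position of a number in a list. -/
def posIn (d : ℕ) (l : List ℕ) : ℕ :=
  List.rec 0 (fun a _ ih => bif Nat.beq a d then 0 else ih + 1) l

/-- The code of one degree: a unit in the field of its position. -/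
def pw (d : ℕ) : ℕ := Nat.pow 32 (posIn d pool)

/-- The code of a list of degrees: five bits for each multiplicity. -/
def codeL (l : List ℕ) : ℕ := List.rec 0 (fun d _ ih => Nat.add (pw d) ih) l

/-- The guard bits. -/
def guard : ℕ := Nat.rec 0 (fun _ acc => Nat.add 16 (Nat.mul 32 acc)) 74

/-- Necessary for one code to be a part of another. -/
def subC (a b : ℕ) : Bool := Nat.beq (Nat.land (Nat.sub (Nat.add b guard) a) guard) guard

/-- Statistics of a list of degrees. -/
structure St where
  sq : ℕ
  x23 : ℕ
  y23 : ℕ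
  x11 : ℕ
  c23 : ℕ
  bad : ℕ

/-- The sum of two statistics. -/
def St.add (a b : St) : St :=
  ⟨Nat.add a.sq b.sq, Nat.add a.x23 b.x23, Nat.add a.y23 b.y23, Nat.add a.x11 b.x11, Nat.add a.c23 b.c23,
    Nat.add a.bad b.bad⟩

/-- Equality of statistics. -/
def St.beq (a b : St) : Bool :=
  Nat.beq a.sq b.sq && Nat.beq a.x23 b.x23 && Nat.beq a.y23 b.y23 && Nat.beq a.x11 b.x11 &&
    Nat.beq a.c23 b.c23 && Nat.beq a.bad b.bad

/-- Residue `±a`. -/
def pm (p a d : ℕ) : Bool := Nat.beq (d % p) a || Nat.beq (d % p) (p - a)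

/-- The degrees that must not occur. -/
def isBad (d : ℕ) : Bool :=
  Nat.ble d 276 && !(Nat.beq d 1 || Nat.beq d 23 || Nat.beq d 45 || Nat.beq d 231 || Nat.beq d 252 || Nat.beq d 253)

/-- A truth value as a number. -/
def b2n (b : Bool) : ℕ := bif b then 1 else 0

/-- The statistics of one degree. -/
def st1 (d : ℕ) : St :=
  ⟨Nat.mul d d, b2n (pm 23 1 d), b2n (pm 23 11 d), b2n (pm 11 1 d), b2n (Nat.beq d 23), b2n (isBad d)⟩

/-- No degree. -/
def St.zero : St := ⟨0, 0, 0, 0, 0, 0⟩

/-- The statistics of a list. -/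
def stL (l : List ℕ) : St := List.rec St.zero (fun d _ ih => St.add (st1 d) ih) l

/-- Within the budget. -/
def limS (s : St) : Bool := Nat.ble s.sq NN && Nat.ble s.x23 11 && Nat.ble s.y23 2 && Nat.ble s.x11 11

/-- Exactly the budget. -/
def fullS (s : St) : Bool := Nat.beq s.sq NN && Nat.beq s.x23 11 && Nat.beq s.y23 2 && Nat.beq s.x11 11

/-- The conclusion on the small degrees. -/
def smallS (s : St) : Bool := Nat.beq s.c23 1 && Nat.beq s.bad 0

/-- The degrees divisible by 35. -/
def six : List ℕ := [770, 1540, 4830, 8855, 10395, 12880]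

/-- Some number up to `n` passes the test. -/
def anyUpTo (f : ℕ → Bool) (n : ℕ) : Bool := Nat.rec (f 0) (fun i ih => bif f (i + 1) then true else ih) n

/-- Whether degrees among `770, 1540, 4830, 8855, 10395, 12880` can complete the statistics: `770` alone
counts at `11` modulo 23, `1540` and `10395` at `±1` modulo 23, `4830` and `12880` at `±1` modulo 11. -/
def compl (s : St) : Bool :=
  anyUpTo (fun a => anyUpTo (fun b =>
    Nat.ble (Nat.add s.sq ((2 - s.y23) * 592900 + a * 2371600 + (11 - s.x23 - a) * 108056025 + b * 23328900 +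
        (11 - s.x11 - b) * 165894400)) NN &&
      Nat.beq ((NN - Nat.add s.sq ((2 - s.y23) * 592900 + a * 2371600 + (11 - s.x23 - a) * 108056025 +
        b * 23328900 + (11 - s.x11 - b) * 165894400)) % 78411025) 0) (11 - s.x11)) (11 - s.x23)

/-- Items stored by keys. -/
inductive Tree (α : Type) where
  | leaf
  | node (k : ℕ) (v : List α) (l r : Tree α)

/-- The items at a key. -/
def Tree.find {α : Type} (t : Tree α) (q : ℕ) : List α :=
  Tree.rec [] (fun k v _ _ ihl ihr => bif Nat.beq q k then v else bif Nat.ble q k then ihl else ihr) t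

/-- All nodes satisfy a test. -/
def Tree.allT {α : Type} (t : Tree α) (f : ℕ → List α → Bool) : Bool :=
  Tree.rec true (fun k v _ _ ihl ihr => f k v && ihl && ihr) t

/-- The top nodes of a tree as singletons, and the subtrees below them. -/
def Tree.parts {α : Type} (t : Tree α) : ℕ → List (Tree α) :=
  Tree.rec (fun _ => []) (fun k v l r ihl ihr n =>
    Nat.rec [Tree.node k v l r] (fun m _ => Tree.node k v .leaf .leaf :: (ihl m ++ ihr m)) n) t

theorem Tree.allT_of_parts {α : Type} {f : ℕ → List α → Bool} :
    ∀ {t : Tree α} {n : ℕ}, (∀ u ∈ t.parts n, Tree.allT u f = true) → t.allT f = true := by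
  intro t
  induction t with
  | leaf => intro n _; rfl
  | node k v l r ihl ihr =>
    intro n h
    cases n with
    | zero => exact h _ (List.mem_singleton_self _)
    | succ m =>
      have hh : ∀ u ∈ Tree.node k v .leaf .leaf :: (l.parts m ++ r.parts m), Tree.allT u f = true := h
      have h1 : (f k v && true && true) = true := hh _ List.mem_cons_self
      have h2 := ihl (n := m) fun u hu => hh u (List.mem_cons_of_mem _ (List.mem_append_left _ hu))
      have h3 := ihr (n := m) fun u hu => hh u (List.mem_cons_of_mem _ (List.mem_append_right _ hu))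
      show (f k v && Tree.allT l f && Tree.allT r f) = true
      simp only [Bool.and_true] at h1
      rw [h1, h2, h3]
      rfl

/-- An option at 7: the code of the residues `±2` at 5, the statistics, the congruence term. -/
structure Opt where
  cb : ℕ
  st : St
  cq : ℕ

/-- Equality of options. -/
def Opt.beq (a b : Opt) : Bool := Nat.beq a.cb b.cb && St.beq a.st b.st && Nat.beq a.cq b.cq

/-- An option for the families at 5 of residues `±1` and the residues `±2` of the orbit of two. -/
structure Grp where
  cb : ℕ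
  st : St

/-- Equality. -/
def Grp.beq (a b : Grp) : Bool := Nat.beq a.cb b.cb && St.beq a.st b.st

/-- The search. -/
def run (F : Tree Grp) (P S D : Tree Opt) (T : Tree St) : Bool :=
  F.allT fun A0 ws =>
    P.allT fun ka as => !(subC ka A0) ||
      S.allT fun kb bs => !(subC kb (Nat.sub A0 ka)) ||
        allF (fun c => allF (fun a => allF (fun b =>
          !(limS (St.add (St.add a.st b.st) c.st)) ||
          !(Nat.beq (Nat.mod (Nat.add (Nat.add a.cq b.cq) c.cq) 1764) 0) ||
          allF (fun w =>
            !(limS (St.add (St.add (St.add a.st b.st) c.st) w.st)) ||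
            !(subC w.cb (Nat.add (Nat.add a.cb b.cb) c.cb)) ||
            allF (fun t =>
              !(limS (St.add (St.add (St.add (St.add a.st b.st) c.st) w.st) t)) ||
              smallS (St.add (St.add (St.add (St.add a.st b.st) c.st) w.st) t) ||
              !(compl (St.add (St.add (St.add (St.add a.st b.st) c.st) w.st) t)))
              (T.find (Nat.sub (Nat.add (Nat.add a.cb b.cb) c.cb) w.cb))) ws) bs) as)
          (D.find (Nat.sub (Nat.sub A0 ka) kb))

/-- The sum at 23 of a degree. -/
def u23 (d : ℕ) : ℤ := M23Uniq.t23 d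

/-- The sum at 11 of a degree. -/
def u11 (d : ℕ) : ℤ := if d % 11 = 1 then 10 else if d % 11 = 10 then -10 else 0

/-- The sign of a degree relative to a residue. -/
def sgnZ (p a d : ℕ) : ℤ := if d % p = a then 1 else -1

/-- Signed sum of a function over rows `(residue, degree)`. -/
def ssum (p : ℕ) (h : ℕ → ℤ) (rows : List (ℕ × ℕ)) : ℤ :=
  List.rec 0 (fun r _ ih => sgnZ p r.1 r.2 * h r.2 + ih) rows

/-- The degrees with the given residue, counted on the positive side. -/
def posD (p : ℕ) (rows : List (ℕ × ℕ)) : ℕ :=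
  List.rec 0 (fun r _ ih => Nat.add (bif Nat.beq (r.2 % p) r.1 then r.2 else 0) ih) rows

/-- The total of the degrees. -/
def totD (rows : List (ℕ × ℕ)) : ℕ := List.rec 0 (fun r _ ih => Nat.add r.2 ih) rows

/-- The three relations. -/
def rel3 (p : ℕ) (rows : List (ℕ × ℕ)) : Bool :=
  Nat.beq (Nat.mul 2 (posD p rows)) (totD rows) && decide (ssum p u23 rows = 0) && decide (ssum p u11 rows = 0)

/-- The congruence term. -/
def cqZ (b : ℕ) (xs : List ℕ) (y : ℕ) : ℕ :=
  (((List.rec (0 : ℤ) (fun d _ ih => (4 * b * b : ℤ) * u11 d * (NN / d : ℕ) + ih) xs) +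
    2 * ((b * b : ℤ) * u11 y * (NN / y : ℕ))) % 1764).toNat

/-- The filter by residues `±1` at 5, among the degrees prime to 7. -/
def selA (l : List ℕ) : List ℕ := l.filter fun d => !(Nat.beq (d % 7) 0) && pm 5 1 d

/-- The filter by residues `±2` at 5, among the degrees prime to 7. -/
def selB (l : List ℕ) : List ℕ := l.filter fun d => !(Nat.beq (d % 7) 0) && pm 5 2 d

/-- The degrees prime to 7. -/
def nz7 (l : List ℕ) : List ℕ := l.filter fun d => !(Nat.beq (d % 7) 0)

/-- The degrees divisible by 7. -/
def z7 (l : List ℕ) : List ℕ := l.filter fun d => Nat.beq (d % 7) 0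

/-- The candidates with residue `±a`. -/
def cands (p a : ℕ) : List ℕ := pool.filter fun d => pm p a d && Nat.ble 2 d

/-- The lists at 7 are complete: `one` is `[1]` for the principal family and `[]` otherwise. -/
def check7 (n a c b : ℕ) (one : List ℕ) (t : Tree Opt) : Bool :=
  allF (fun xs => allF (fun y =>
    !(rel3 7 ((one ++ xs).map (fun d => (a, d)) ++ [(c, y)]) && limS (stL (one ++ (xs ++ [y, y])))) ||
      anyF (Opt.beq ⟨codeL (selB (xs ++ [y, y])), stL (one ++ (xs ++ [y, y])), cqZ b (one ++ xs) y⟩)
        (t.find (codeL (selA (xs ++ [y, y]))))) (cands 7 c)) (multiCombos (cands 7 a) n)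

/-- Equality of lists. -/
def beqL : List ℕ → List ℕ → Bool :=
  fun l => List.rec (fun m => m.isEmpty) (fun a _ ih m => List.rec false (fun b m' _ => Nat.beq a b && ih m') m) l

/-- A list of possible families with one residue is complete. -/
def checkU (p a n : ℕ) (one : List ℕ) (out : List (List ℕ)) : Bool :=
  allF (fun xs => !(rel3 p ((one ++ xs).map fun d => (a, d)) && limS (stL (one ++ xs))) || anyF (beqL xs) out)
    (multiCombos (cands p a) n)

/-- Sorted insertion. -/
def ins (x : ℕ) (l : List ℕ) : List ℕ :=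
  List.rec [x] (fun a t ih => bif Nat.ble x a then x :: a :: t else a :: ih) l

/-- The completion of four members to five by the degree relation is listed. -/
def leaf5 (p a : ℕ) (out : List (List ℕ)) (P T : ℕ) (acc : List ℕ) : Bool :=
  !(Golay.Local.memF (Nat.sub (Nat.max (Nat.mul 2 P) T) (Nat.min (Nat.mul 2 P) T)) (cands p a)) ||
    !(rel3 p ((ins (Nat.sub (Nat.max (Nat.mul 2 P) T) (Nat.min (Nat.mul 2 P) T)) acc).map fun d => (a, d)) &&
      limS (stL (ins (Nat.sub (Nat.max (Nat.mul 2 P) T) (Nat.min (Nat.mul 2 P) T)) acc))) ||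
    anyF (beqL (ins (Nat.sub (Nat.max (Nat.mul 2 P) T) (Nat.min (Nat.mul 2 P) T)) acc)) out

/-- All choices of `k` members from a list, carrying the positive and the total degree sums. -/
def scan (p a : ℕ) (leaf : ℕ → ℕ → List ℕ → Bool) (l : List ℕ) : ℕ → ℕ → ℕ → List ℕ → Bool :=
  List.rec (fun k P T acc => !(Nat.beq k 0) || leaf P T acc)
    (fun d _ ih k P T acc =>
      allBelowR (fun j => ih (k - j) (Nat.add P (bif Nat.beq (d % p) a then j * d else 0)) (Nat.add T (j * d))
        (acc ++ List.replicate j d)) k) l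
where
  /-- All numbers up to `n` pass the test. -/
  allBelowR (f : ℕ → Bool) (n : ℕ) : Bool := Nat.rec (f 0) (fun i ih => bif f (i + 1) then ih else false) n

/-- A list of families of five members of one residue is complete. -/
def checkFive (p a : ℕ) (out : List (List ℕ)) : Bool :=
  scan p a (leaf5 p a out) (cands p a) 4 0 0 []

/-- The list of the families of two and two is complete. -/
def checkW (out : List (List ℕ × ℕ)) : Bool :=
  allF (fun xs => allF (fun y =>
    !(rel3 5 (xs.map (fun d => (2, d)) ++ [(1, y)]) && limS (stL (xs ++ [y, y]))) ||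
      anyF (fun o => beqL xs o.1 && Nat.beq y o.2) out) (cands 5 1)) (multiCombos (cands 5 2) 2)

/-- The families of residue `±3` at 5 are stored. -/
def checkT (out : List (List ℕ)) (t : Tree St) : Bool :=
  allF (fun xs => anyF (St.beq (stL (z7 xs))) (t.find (codeL (nz7 xs)))) out

/-- The combined options are stored: the orbit of two exchanged. -/
def checkFW (fs : List (List ℕ)) (ws : List (List ℕ × ℕ)) (F : Tree Grp) : Bool :=
  allF (fun f => allF (fun w => !(limS (stL (1 :: (f ++ (w.1 ++ [w.2, w.2]))))) ||
    anyF (Grp.beq ⟨codeL (nz7 w.1), stL (z7 (f ++ (w.1 ++ [w.2, w.2])))⟩)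
      (F.find (codeL (nz7 (f ++ [w.2, w.2]))))) ws) fs

/-- The combined options are stored: each fixed. -/
def checkFQ (fs qs : List (List ℕ)) (F : Tree Grp) : Bool :=
  allF (fun f => allF (fun q => !(limS (stL (1 :: (f ++ (q ++ q))))) ||
    anyF (Grp.beq ⟨0, stL (z7 (f ++ (q ++ q)))⟩) (F.find (codeL (nz7 (f ++ (q ++ q)))))) qs) fs

end

end Cfsg.Agent.M24Join
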