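import Cfsg.Agent.Lib.M24Join.Sums
import Cfsg.Agent.Lib.M24Join.CheckSeven
import Cfsg.Agent.Lib.M24Join.CheckFive
import Cfsg.Agent.Lib.M24Join.CheckFiveT
import Cfsg.Agent.Lib.M24Join.CheckFiveQ
import Cfsg.Agent.Lib.M24Join.CheckRun

/-!
The join of the families at 7 and at 5: the degrees have one 23 and nothing unexpected up to 276.
-/

namespace Cfsg.Agent.M24Join

open Cfsg.Agent.Golay.Local (allF anyF allF_iff anyF_iff)
open Cfsg.Agent.M12Uniq (multiCombos exists_multiCombo)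

noncomputable section

/-- A list of single members and a member taken twice. -/
def gM (xs : Multiset ℕ) (y : ℕ) : Multiset ℕ := xs + Multiset.replicate 2 y

/-- The rows of a family with a member taken twice. -/
def rowsP (a c : ℕ) (xs : Multiset ℕ) (y : ℕ) : Multiset (ℕ × ℕ) := xs.map (fun d => (a, d)) + {(c, y)}

/-- The rows of a family of one residue. -/
def rowsU (a : ℕ) (xs : Multiset ℕ) : Multiset (ℕ × ℕ) := xs.map fun d => (a, d)

/-- A family at 7. -/
structure Fam7 (a c n : ℕ) (one xs : Multiset ℕ) (y : ℕ) : Prop where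
  card : Multiset.card xs = n
  mem : ∀ d ∈ xs, pm 7 a d = true
  memY : pm 7 c y = true
  rel : Rel 7 (rowsP a c (one + xs) y)

/-- Prime to 5. -/
def p5 (d : ℕ) : Bool := !(Nat.beq (d % 5) 0)

/-- The properties of the multiset of degrees. -/
structure DegData (D : Multiset ℕ) : Prop where
  pool : ∀ d ∈ D, d ∈ pool
  one : D.count 1 = 1
  sq : (sM D).sq = NN
  x23 : (sM D).x23 = 11
  y23 : (sM D).y23 = 2
  x11 : (sM D).x11 = 11
  seven : ∃ (xs₁ : Multiset ℕ) (y₁ : ℕ) (xs₂ : Multiset ℕ) (y₂ : ℕ) (xs₃ : Multiset ℕ) (y₃ : ℕ),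
    Fam7 1 4 2 (↑([1] : List ℕ)) xs₁ y₁ ∧ Fam7 1 4 3 0 xs₂ y₂ ∧ Fam7 2 1 3 0 xs₃ y₃ ∧
      fM pN D = 1 ::ₘ (gM xs₁ y₁ + gM xs₂ y₂ + gM xs₃ y₃) ∧
      (1764 : ℤ) ∣ cqT 1 (↑([1] : List ℕ) + xs₁) y₁ + cqT 1 xs₂ y₂ + cqT 2 xs₃ y₃
  five : ∃ f T : Multiset ℕ, Multiset.card f = 4 ∧ (∀ d ∈ f, pm 5 1 d = true) ∧ Multiset.card T = 5 ∧
    (∀ d ∈ T, pm 5 3 d = true) ∧ Rel 5 (rowsU 1 (↑([1] : List ℕ) + f)) ∧ Rel 5 (rowsU 3 T) ∧
    ((∃ (w : Multiset ℕ) (y : ℕ), Multiset.card w = 2 ∧ (∀ d ∈ w, pm 5 2 d = true) ∧ pm 5 1 y = true ∧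
        Rel 5 (rowsP 2 1 w y) ∧ fM p5 D = 1 ::ₘ (f + gM w y + T)) ∨
      ∃ q : Multiset ℕ, Multiset.card q = 5 ∧ (∀ d ∈ q, pm 5 1 d = true) ∧ Rel 5 (rowsU 1 q) ∧
        fM p5 D = 1 ::ₘ (f + (q + q) + T))

/-! ### The checks -/

theorem coe_pair (y : ℕ) : (↑([y, y] : List ℕ) : Multiset ℕ) = Multiset.replicate 2 y := rfl

theorem check7_spec {n a c b : ℕ} {one : List ℕ} {t : Tree Opt} (h : check7 n a c b one t = true)
    {xs : Multiset ℕ} {y : ℕ} (F : Fam7 a c n (↑one) xs y) (hxs : ∀ d ∈ xs, d ∈ pool ∧ 2 ≤ d)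
    (hy : y ∈ pool ∧ 2 ≤ y) (hl : limS (sM (↑one + gM xs y)) = true) :
    ∃ o ∈ t.find (cM (fM pA (gM xs y))), o.cb = cM (fM pB (gM xs y)) ∧ o.st = sM (↑one + gM xs y) ∧
      (o.cq : ℤ) = cqT b (↑one + xs) y % 1764 := by
  obtain ⟨l, hl1, hl2⟩ := exists_multiCombo (cands 7 a) xs
    fun d hd => mem_cands.2 ⟨(hxs d hd).1, F.mem d hd, (hxs d hd).2⟩
  rw [F.card] at hl1
  have h2 := allF_iff.1 (allF_iff.1 h l hl1) y (mem_cands.2 ⟨hy.1, F.memY, hy.2⟩)
  have hrows : (↑((one ++ l).map (fun d => (a, d)) ++ [(c, y)]) : Multiset (ℕ × ℕ)) =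
      rowsP a c (↑one + xs) y := by
    rw [rowsP, ← hl2, Multiset.coe_add, Multiset.map_coe, ← Multiset.coe_add, Multiset.coe_singleton]
  have hg : (↑(l ++ [y, y]) : Multiset ℕ) = gM xs y := by
    rw [gM, ← hl2, ← Multiset.coe_add, coe_pair]
  have hst : stL (one ++ (l ++ [y, y])) = sM (↑one + gM xs y) := by
    rw [stL_eq, ← hg, Multiset.coe_add]
  rw [rel3_iff.2 (hrows ▸ F.rel), hst, hl] at h2
  simp only [Bool.and_self, Bool.not_true, Bool.false_or] at h2
  obtain ⟨o, ho, hbeq⟩ := anyF_iff.1 h2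
  have e := Opt.eq_of_beq hbeq
  rw [codeL_eq, selA_eq, hg] at ho
  refine ⟨o, ho, ?_, ?_, ?_⟩
  · rw [← e]
    show codeL (selB (l ++ [y, y])) = _
    rw [codeL_eq, selB_eq, hg]
  · rw [← e]
  · rw [← e]
    show ((cqZ b (one ++ l) y : ℕ) : ℤ) = _
    rw [cqZ_eq, ← hl2, ← Multiset.coe_add]

theorem checkU_spec {p a n : ℕ} {one : List ℕ} {out : List (List ℕ)} (h : checkU p a n one out = true)
    {xs : Multiset ℕ} (hn : Multiset.card xs = n) (hxs : ∀ d ∈ xs, d ∈ cands p a)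
    (hr : Rel p (rowsU a (↑one + xs))) (hl : limS (sM (↑one + xs)) = true) :
    ∃ l ∈ out, (↑l : Multiset ℕ) = xs := by
  obtain ⟨l, hl1, hl2⟩ := exists_multiCombo (cands p a) xs hxs
  rw [hn] at hl1
  have h2 := allF_iff.1 h l hl1
  have hrows : (↑((one ++ l).map fun d => (a, d)) : Multiset (ℕ × ℕ)) = rowsU a (↑one + xs) := by
    rw [rowsU, ← hl2, Multiset.coe_add, Multiset.map_coe]
  rw [rel3_iff.2 (hrows ▸ hr), stL_eq, ← Multiset.coe_add, hl2, hl] at h2
  simp only [Bool.and_self, Bool.not_true, Bool.false_or] at h2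
  obtain ⟨o, ho, hbeq⟩ := anyF_iff.1 h2
  exact ⟨o, ho, by rw [← beqL_eq hbeq, hl2]⟩

theorem checkW_spec {out : List (List ℕ × ℕ)} (h : checkW out = true) {xs : Multiset ℕ} {y : ℕ}
    (hn : Multiset.card xs = 2) (hxs : ∀ d ∈ xs, d ∈ cands 5 2) (hy : y ∈ cands 5 1)
    (hr : Rel 5 (rowsP 2 1 xs y)) (hl : limS (sM (gM xs y)) = true) :
    ∃ o ∈ out, (↑o.1 : Multiset ℕ) = xs ∧ o.2 = y := by
  obtain ⟨l, hl1, hl2⟩ := exists_multiCombo (cands 5 2) xs hxs
  rw [hn] at hl1
  have h2 := allF_iff.1 (allF_iff.1 h l hl1) y hy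
  have hrows : ((l.map (fun d => (2, d)) ++ [(1, y)] : List (ℕ × ℕ)) : Multiset (ℕ × ℕ)) = rowsP 2 1 xs y := by
    rw [rowsP, ← hl2, Multiset.map_coe, ← Multiset.coe_add, Multiset.coe_singleton]
  rw [rel3_iff.2 (hrows ▸ hr), stL_eq, ← Multiset.coe_add, hl2, coe_pair, ← gM, hl] at h2
  simp only [Bool.and_self, Bool.not_true, Bool.false_or] at h2
  obtain ⟨o, ho, hbeq⟩ := anyF_iff.1 h2
  simp only [Bool.and_eq_true, beq_iff] at hbeq
  exact ⟨o, ho, by rw [← beqL_eq hbeq.1, hl2], hbeq.2.symm⟩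

theorem sS_id (p a : ℕ) (m : Multiset ℕ) :
    sS p (fun d => (d : ℤ)) (rowsU a m) = 2 * (posA p a m : ℤ) - m.sum := by
  induction m using Multiset.induction_on with
  | empty => rfl
  | cons d m ih =>
    simp only [sS, rowsU, posA, Multiset.map_cons, Multiset.sum_cons] at ih ⊢
    rw [ih, sgnZ]
    split_ifs <;> push_cast <;> ring

theorem checkFive_spec {p a : ℕ} {out : List (List ℕ)} (h : checkFive p a out = true) {m : Multiset ℕ}
    (hn : Multiset.card m = 5) (hm : ∀ d ∈ m, d ∈ cands p a) (hr : Rel p (rowsU a m))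
    (hl : limS (sM m) = true) : ∃ l ∈ out, (↑l : Multiset ℕ) = m := by
  obtain ⟨z, hz⟩ := Multiset.card_pos_iff_exists_mem.1 (by omega : 0 < Multiset.card m)
  obtain ⟨l, hl1, hl2⟩ := exists_multiCombo (cands p a) (m.erase z)
    fun d hd => hm d (Multiset.mem_of_mem_erase hd)
  rw [Multiset.card_erase_of_mem hz, hn] at hl1
  have hm' : z ::ₘ (↑l : Multiset ℕ) = m := by rw [hl2, Multiset.cons_erase hz]
  have h2 := scan_spec _ _ _ _ _ h l hl1
  rw [Nat.zero_add, Nat.zero_add, List.nil_append] at h2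
  have hid := hr.1
  rw [sS_id, ← hm', posA, Multiset.map_cons, Multiset.sum_cons, Multiset.sum_cons, Multiset.sum_coe, ← posA] at hid
  have hzz : Nat.sub (Nat.max (Nat.mul 2 (posA p a ↑l)) l.sum) (Nat.min (Nat.mul 2 (posA p a ↑l)) l.sum) = z := by
    show max (2 * posA p a ↑l) l.sum - min (2 * posA p a ↑l) l.sum = z
    split_ifs at hid <;> simp only [Nat.cast_add, Nat.cast_zero] at hid <;> omega
  simp only [leaf5, hzz] at h2
  have hins : (↑(ins z l) : Multiset ℕ) = m := by rw [ins_perm, hm']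
  have hrows : (↑((ins z l).map fun d => (a, d)) : Multiset (ℕ × ℕ)) = rowsU a m := by
    rw [rowsU, ← hins, Multiset.map_coe]
  rw [rel3_iff.2 (hrows ▸ hr), stL_eq, hins, hl, Golay.Local.memF_iff.2 (hm z hz)] at h2
  simp only [Bool.and_self, Bool.not_true, Bool.false_or] at h2
  obtain ⟨o, ho, hbeq⟩ := anyF_iff.1 h2
  exact ⟨o, ho, by rw [← beqL_eq hbeq, hins]⟩

theorem checkT_spec {out : List (List ℕ)} {t : Tree St} (h : checkT out t = true) {l : List ℕ} (hl : l ∈ out) :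
    sM (fM pZ ↑l) ∈ t.find (cM (fM pN ↑l)) := by
  obtain ⟨o, ho, hbeq⟩ := anyF_iff.1 (allF_iff.1 h l hl)
  rw [codeL_eq, nz7_eq] at ho
  rw [← z7_eq, ← stL_eq, St.eq_of_beq hbeq]
  exact ho

theorem checkFW_spec {fs : List (List ℕ)} {ws : List (List ℕ × ℕ)} {F : Tree Grp} (h : checkFW fs ws F = true)
    {f : List ℕ} (hf : f ∈ fs) {w : List ℕ × ℕ} (hw : w ∈ ws)
    (hl : limS (sM (1 ::ₘ (↑f + gM ↑w.1 w.2))) = true) :
    (⟨cM (fM pN ↑w.1), sM (fM pZ (↑f + gM ↑w.1 w.2))⟩ : Grp) ∈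
      F.find (cM (fM pN (↑f + Multiset.replicate 2 w.2))) := by
  have h2 := allF_iff.1 (allF_iff.1 h f hf) w hw
  rw [stL_eq, ← Multiset.cons_coe, ← Multiset.coe_add, ← Multiset.coe_add, coe_pair, ← gM, hl] at h2
  simp only [Bool.not_true, Bool.false_or] at h2
  obtain ⟨o, ho, hbeq⟩ := anyF_iff.1 h2
  rw [← Grp.eq_of_beq hbeq, codeL_eq, nz7_eq, codeL_eq, nz7_eq, stL_eq, z7_eq] at ho
  simp only [← Multiset.coe_add, coe_pair] at ho
  exact ho

theorem checkFQ_spec {fs qs : List (List ℕ)} {F : Tree Grp} (h : checkFQ fs qs F = true)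
    {f : List ℕ} (hf : f ∈ fs) {q : List ℕ} (hq : q ∈ qs)
    (hl : limS (sM (1 ::ₘ (↑f + (↑q + ↑q)))) = true) :
    (⟨0, sM (fM pZ (↑f + (↑q + ↑q)))⟩ : Grp) ∈ F.find (cM (fM pN (↑f + (↑q + ↑q)))) := by
  have h2 := allF_iff.1 (allF_iff.1 h f hf) q hq
  rw [stL_eq, ← Multiset.cons_coe, ← Multiset.coe_add, ← Multiset.coe_add, hl] at h2
  simp only [Bool.not_true, Bool.false_or] at h2
  obtain ⟨o, ho, hbeq⟩ := anyF_iff.1 h2
  rw [← Grp.eq_of_beq hbeq, codeL_eq, nz7_eq, stL_eq, z7_eq] at ho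
  simp only [← Multiset.coe_add] at ho
  exact ho

/-! ### Filters -/

theorem fM_all {f : ℕ → Bool} {m : Multiset ℕ} (h : ∀ d ∈ m, f d = true) : fM f m = m :=
  Multiset.filter_eq_self.2 h

theorem fM_none {f : ℕ → Bool} {m : Multiset ℕ} (h : ∀ d ∈ m, ¬ f d = true) : fM f m = 0 :=
  Multiset.filter_eq_nil.2 h

theorem fM_fM {f g : ℕ → Bool} (h : ∀ d, f d = true → g d = true) (m : Multiset ℕ) :
    fM f (fM g m) = fM f m := by
  rw [fM, fM, Multiset.filter_filter]
  exact Multiset.filter_congr fun d _ => ⟨And.left, fun hd => ⟨hd, h d hd⟩⟩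

theorem pA_eq (m : Multiset ℕ) : fM pA m = fM pN (fM (pm 5 1) m) := by
  rw [fM, fM, Multiset.filter_filter]
  exact Multiset.filter_congr fun d _ => by simp [pA, pN]

theorem pB_eq (m : Multiset ℕ) : fM pB m = fM pN (fM (pm 5 2) m) := by
  rw [fM, fM, Multiset.filter_filter]
  exact Multiset.filter_congr fun d _ => by simp [pB, pN]

theorem pm53 (d : ℕ) : pm 5 3 d = pm 5 2 d := by simp [pm, Bool.or_comm]

theorem not_both (d : ℕ) (h1 : pm 5 1 d = true) (h2 : pm 5 2 d = true) : False := by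
  simp only [pm, Bool.or_eq_true, beq_iff] at h1 h2
  omega

theorem p5_of_pm {a : ℕ} (ha : 0 < a) (ha' : a < 5) {d : ℕ} (h : pm 5 a d = true) : p5 d = true := by
  simp only [pm, Bool.or_eq_true, beq_iff] at h
  simp only [p5, Bool.not_eq_true', Bool.eq_false_iff, ne_eq, beq_iff]
  omega

theorem six_of_pool : ∀ d ∈ pool, d % 7 = 0 → d % 5 = 0 → d ∈ six := by decide +kernel

theorem pos_of_pool : ∀ d ∈ pool, 1 ≤ d := by decide +kernel

theorem sum_six {R : Multiset ℕ} (h : ∀ d ∈ R, d ∈ six) (f : ℕ → ℕ) :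
    (R.map f).sum = R.count 770 * f 770 + R.count 1540 * f 1540 + R.count 4830 * f 4830 +
      R.count 8855 * f 8855 + R.count 10395 * f 10395 + R.count 12880 * f 12880 := by
  induction R using Multiset.induction_on with
  | empty => simp
  | cons d m ih =>
    have hd := h d (Multiset.mem_cons_self d m)
    rw [Multiset.map_cons, Multiset.sum_cons, ih fun e he => h e (Multiset.mem_cons_of_mem he)]
    simp only [six, List.mem_cons, List.not_mem_nil, or_false] at hd
    rcases hd with rfl | rfl | rfl | rfl | rfl | rfl <;> simp [Multiset.count_cons] <;> ring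

theorem compl_ok {s : St} {R : Multiset ℕ} (h : ∀ d ∈ R, d ∈ six) (hsq : s.sq + (sM R).sq = NN)
    (h1 : s.x23 + (sM R).x23 = 11) (h2 : s.y23 + (sM R).y23 = 2) (h3 : s.x11 + (sM R).x11 = 11) :
    compl s = true ∧ (sM R).c23 = 0 ∧ (sM R).bad = 0 := by
  simp only [sM, sum_six h] at hsq h1 h2 h3 ⊢
  simp only [show b2n (pm 23 1 770) = 0 from rfl, show b2n (pm 23 1 1540) = 1 from rfl,
    show b2n (pm 23 1 4830) = 0 from rfl, show b2n (pm 23 1 8855) = 0 from rfl,
    show b2n (pm 23 1 10395) = 1 from rfl, show b2n (pm 23 1 12880) = 0 from rfl,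
    show b2n (pm 23 11 770) = 1 from rfl, show b2n (pm 23 11 1540) = 0 from rfl,
    show b2n (pm 23 11 4830) = 0 from rfl, show b2n (pm 23 11 8855) = 0 from rfl,
    show b2n (pm 23 11 10395) = 0 from rfl, show b2n (pm 23 11 12880) = 0 from rfl,
    show b2n (pm 11 1 770) = 0 from rfl, show b2n (pm 11 1 1540) = 0 from rfl,
    show b2n (pm 11 1 4830) = 1 from rfl, show b2n (pm 11 1 8855) = 0 from rfl,
    show b2n (pm 11 1 10395) = 0 from rfl, show b2n (pm 11 1 12880) = 1 from rfl,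
    show b2n (Nat.beq 770 23) = 0 from rfl, show b2n (Nat.beq 1540 23) = 0 from rfl,
    show b2n (Nat.beq 4830 23) = 0 from rfl, show b2n (Nat.beq 8855 23) = 0 from rfl,
    show b2n (Nat.beq 10395 23) = 0 from rfl, show b2n (Nat.beq 12880 23) = 0 from rfl,
    show b2n (isBad 770) = 0 from rfl, show b2n (isBad 1540) = 0 from rfl,
    show b2n (isBad 4830) = 0 from rfl, show b2n (isBad 8855) = 0 from rfl,
    show b2n (isBad 10395) = 0 from rfl, show b2n (isBad 12880) = 0 from rfl] at hsq h1 h2 h3 ⊢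
  refine ⟨anyUpTo_of (i := R.count 1540) (by omega) (anyUpTo_of (i := R.count 4830) (by omega) ?_),
    by omega, by omega⟩
  simp only [Bool.and_eq_true, ble_iff, beq_iff, Nat.add_eq]
  simp only [NN] at hsq ⊢
  refine ⟨by omega, Nat.mod_eq_zero_of_dvd ⟨R.count 8855, by omega⟩⟩

theorem count_eq (m : Multiset ℕ) : (sM m).c23 = m.count 23 := by
  simp only [sM]
  induction m using Multiset.induction_on with
  | empty => rfl
  | cons d m ih =>
    rw [Multiset.map_cons, Multiset.sum_cons, ih, Multiset.count_cons]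
    by_cases h : d = 23
    · subst h; simp [b2n, beq_iff]; ring
    · rw [show Nat.beq d 23 = false by rwa [Bool.eq_false_iff, ne_eq, beq_iff], if_neg fun e => h e.symm]
      simp [b2n]

/-! ### The conclusion -/

theorem small_degrees {D : Multiset ℕ} (hD : DegData D) :
    D.count 23 = 1 ∧ ∀ d ∈ D, d ≤ 276 → d = 1 ∨ d = 23 ∨ d = 45 ∨ d = 231 ∨ d = 252 ∨ d = 253 := by
  classical
  have h1D : 1 ∈ D := Multiset.count_pos.1 (by rw [hD.one]; norm_num)
  obtain ⟨D', rfl⟩ := Multiset.exists_cons_of_mem h1D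
  have hone : D'.count 1 = 0 := by
    have := hD.one
    rw [Multiset.count_cons_self] at this
    omega
  have hD' : ∀ d ∈ D', d ∈ pool ∧ 2 ≤ d := fun d hd =>
    have hp := hD.pool d (Multiset.mem_cons_of_mem hd)
    ⟨hp, by
      have h0 := pos_of_pool d hp
      have hne : d ≠ 1 := fun e => by rw [e] at hd; exact Multiset.count_eq_zero.1 hone hd
      omega⟩
  have hlimD : limS (sM (1 ::ₘ D')) = true := by
    simp only [limS, Bool.and_eq_true, ble_iff]
    rw [hD.sq, hD.x23, hD.y23, hD.x11]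
    omega
  obtain ⟨xs₁, y₁, xs₂, y₂, xs₃, y₃, F₁, F₂, F₃, e7, hcong⟩ := hD.seven
  obtain ⟨f, T, hfc, hfp, hTc, hTp, hfr, hTr, hcase⟩ := hD.five
  rw [fM, Multiset.filter_cons_of_pos (s := D') (by rfl), Multiset.cons_inj_right] at e7
  -- both cases of the orbit of two in one form
  have key : ∀ Wb Wa : Multiset ℕ, (∀ d ∈ Wa, pm 5 1 d = true) → (∀ d ∈ Wb, pm 5 2 d = true) →
      fM p5 D' = f + (Wb + Wa) + T →
      (⟨cM (fM pN Wb), sM (fM pZ (f + (Wb + Wa)))⟩ : Grp) ∈ treeF.find (cM (fM pN (f + Wa))) →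
      (1 ::ₘ D').count 23 = 1 ∧
        ∀ d ∈ 1 ::ₘ D', d ≤ 276 → d = 1 ∨ d = 23 ∨ d = 45 ∨ d = 231 ∨ d = 252 ∨ d = 253 := by
    intro Wb Wa hWa hWb e5 hgrp
    have hTp2 : ∀ d ∈ T, pm 5 2 d = true := fun d hd => (pm53 d).symm.trans (hTp d hd)
    have hA : fM pA (gM xs₁ y₁) + (fM pA (gM xs₂ y₂) + fM pA (gM xs₃ y₃)) = fM pN (f + Wa) := by
      have a1 : fM pA (fM pN D') = fM pA D' := fM_fM (fun d h => (Bool.and_eq_true _ _).mp h |>.1) D'
      have a2 : fM (pm 5 1) D' = f + Wa := by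
        rw [← fM_fM (fun d h => p5_of_pm (by norm_num) (by norm_num) h) D', e5]
        simp only [fM, Multiset.filter_add]
        rw [show Multiset.filter (fun d => pm 5 1 d = true) Wb = 0 from
            fM_none fun d hd h => not_both d h (hWb d hd),
          show Multiset.filter (fun d => pm 5 1 d = true) T = 0 from
            fM_none fun d hd h => not_both d h (hTp2 d hd),
          show Multiset.filter (fun d => pm 5 1 d = true) f = f from fM_all hfp,
          show Multiset.filter (fun d => pm 5 1 d = true) Wa = Wa from fM_all hWa]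
        simp
      rw [← a2, ← pA_eq, ← a1, show fM pN D' = gM xs₁ y₁ + gM xs₂ y₂ + gM xs₃ y₃ from e7]
      simp only [fM, Multiset.filter_add]
      abel
    have hB : fM pB (gM xs₁ y₁) + fM pB (gM xs₂ y₂) + fM pB (gM xs₃ y₃) = fM pN Wb + fM pN T := by
      have a1 : fM pB (fM pN D') = fM pB D' := fM_fM (fun d h => (Bool.and_eq_true _ _).mp h |>.1) D'
      have a2 : fM (pm 5 2) D' = Wb + T := by
        rw [← fM_fM (fun d h => p5_of_pm (by norm_num) (by norm_num) h) D', e5]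
        simp only [fM, Multiset.filter_add]
        rw [show Multiset.filter (fun d => pm 5 2 d = true) f = 0 from
            fM_none fun d hd h => not_both d (hfp d hd) h,
          show Multiset.filter (fun d => pm 5 2 d = true) Wa = 0 from
            fM_none fun d hd h => not_both d (hWa d hd) h,
          show Multiset.filter (fun d => pm 5 2 d = true) T = T from fM_all hTp2,
          show Multiset.filter (fun d => pm 5 2 d = true) Wb = Wb from fM_all hWb]
        simp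
      rw [show fM pN Wb + fM pN T = fM pN (Wb + T) from (Multiset.filter_add _ _ _).symm, ← a2, ← pB_eq, ← a1,
        show fM pN D' = gM xs₁ y₁ + gM xs₂ y₂ + gM xs₃ y₃ from e7]
      simp only [fM, Multiset.filter_add]
    -- the part divisible by 35
    obtain ⟨R, hR, hsplit⟩ : ∃ R : Multiset ℕ, (∀ d ∈ R, d ∈ six) ∧
        1 ::ₘ D' = ↑([1] : List ℕ) + gM xs₁ y₁ + gM xs₂ y₂ + gM xs₃ y₃ + fM pZ (f + (Wb + Wa)) + fM pZ T + R := by
      refine ⟨fM (fun d => pZ d && !(p5 d)) D', fun d hd => ?_, ?_⟩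
      · obtain ⟨hd1, hd2⟩ := Multiset.mem_filter.1 hd
        simp only [pZ, p5, Bool.and_eq_true, Bool.not_not, beq_iff] at hd2
        exact six_of_pool d (hD' d hd1).1 hd2.1 hd2.2
      · have b1 : fM pN D' + fM pZ D' = D' := by
          rw [show fM pZ D' = Multiset.filter (fun d => ¬ pN d = true) D' from
            Multiset.filter_congr fun d _ => by simp [pN, pZ]]
          exact Multiset.filter_add_not _ _
        have b2 : fM pZ (fM p5 D') + fM (fun d => pZ d && !(p5 d)) D' = fM pZ D' := by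
          rw [show fM (fun d => pZ d && !(p5 d)) D' =
              Multiset.filter (fun d => ¬ p5 d = true) (fM pZ D') by
            rw [fM, fM, Multiset.filter_filter]
            exact Multiset.filter_congr fun d _ => by simp [and_comm],
            show fM pZ (fM p5 D') = Multiset.filter (fun d => p5 d = true) (fM pZ D') from
              Multiset.filter_comm _ _ _]
          exact Multiset.filter_add_not _ _
        rw [e5] at b2
        simp only [fM, Multiset.filter_add] at b2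
        rw [Multiset.coe_singleton, ← Multiset.singleton_add]
        conv_lhs => rw [← b1, show fM pN D' = gM xs₁ y₁ + gM xs₂ y₂ + gM xs₃ y₃ from e7]
        simp only [fM, Multiset.filter_add]
        rw [← b2]
        abel
    have le1 : ∀ {m k : Multiset ℕ}, 1 ::ₘ D' = m + k → limS (sM m) = true :=
      fun e => limS_le (e ▸ Multiset.le_add_right _ _) hlimD
    -- membership of the parts
    have g7 : ∀ d ∈ gM xs₁ y₁ + gM xs₂ y₂ + gM xs₃ y₃, d ∈ pool ∧ 2 ≤ d := fun d hd =>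
      hD' d (Multiset.mem_of_mem_filter (e7 ▸ hd))
    have hy : ∀ (xs : Multiset ℕ) (y : ℕ), y ∈ gM xs y := fun xs y =>
      Multiset.mem_add.2 (Or.inr (Multiset.mem_replicate.2 ⟨by norm_num, rfl⟩))
    have hxg : ∀ (xs : Multiset ℕ) (y : ℕ), ∀ d ∈ xs, d ∈ gM xs y := fun xs y d hd =>
      Multiset.mem_add.2 (Or.inl hd)
    obtain ⟨o₁, ho₁, cb₁, st₁, cq₁⟩ := check7_spec checkP_ok F₁
      (fun d hd => g7 d (Multiset.mem_add.2 (Or.inl (Multiset.mem_add.2 (Or.inl (hxg _ _ d hd))))))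
      (g7 _ (Multiset.mem_add.2 (Or.inl (Multiset.mem_add.2 (Or.inl (hy _ _))))))
      (le1 (k := gM xs₂ y₂ + gM xs₃ y₃ + fM pZ (f + (Wb + Wa)) + fM pZ T + R) (by rw [hsplit]; abel))
    obtain ⟨o₂, ho₂, cb₂, st₂, cq₂⟩ := check7_spec checkS_ok (one := []) F₂
      (fun d hd => g7 d (Multiset.mem_add.2 (Or.inl (Multiset.mem_add.2 (Or.inr (hxg _ _ d hd))))))
      (g7 _ (Multiset.mem_add.2 (Or.inl (Multiset.mem_add.2 (Or.inr (hy _ _))))))
      (le1 (k := ↑([1] : List ℕ) + gM xs₁ y₁ + gM xs₃ y₃ + fM pZ (f + (Wb + Wa)) + fM pZ T + R)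
        (by rw [hsplit, Multiset.coe_nil]; abel))
    obtain ⟨o₃, ho₃, cb₃, st₃, cq₃⟩ := check7_spec checkD_ok (one := []) F₃
      (fun d hd => g7 d (Multiset.mem_add.2 (Or.inr (hxg _ _ d hd))))
      (g7 _ (Multiset.mem_add.2 (Or.inr (hy _ _))))
      (le1 (k := ↑([1] : List ℕ) + gM xs₁ y₁ + gM xs₂ y₂ + fM pZ (f + (Wb + Wa)) + fM pZ T + R)
        (by rw [hsplit, Multiset.coe_nil]; abel))
    -- the families of residue three
    have hT' : ∀ d ∈ T, d ∈ cands 5 3 := fun d hd => by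
      have hd' : d ∈ fM p5 D' := e5 ▸ Multiset.mem_add.2 (Or.inr hd)
      obtain ⟨h1, h2⟩ := hD' d (Multiset.mem_of_mem_filter hd')
      exact mem_cands.2 ⟨h1, hTp d hd, h2⟩
    have hlimT : limS (sM T) = true := by
      refine limS_le (le_trans ?_ (Multiset.le_cons_self D' 1)) hlimD
      calc T ≤ f + (Wb + Wa) + T := Multiset.le_add_left _ _
        _ = fM p5 D' := e5.symm
        _ ≤ D' := Multiset.filter_le _ _
    obtain ⟨lT, hlT, hlTe⟩ := checkFive_spec listT_ok hTc hT' hTr hlimT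
    have ht := checkT_spec storedT_ok hlT
    rw [hlTe] at ht
    -- the search
    have hrun := run_ok
    obtain ⟨ws, hP, hw⟩ := allT_find hrun _ hgrp
    obtain ⟨as, hS, ha⟩ := allT_find hP o₁ ho₁
    have sub1 : subC (cM (fM pA (gM xs₁ y₁))) (cM (fM pN (f + Wa))) = true := by
      rw [← hA]
      refine subC_add (fun d hd => ?_) ?_
      · rcases Multiset.mem_add.1 hd with hd | hd <;> have := Multiset.mem_of_mem_filter hd
        · exact (g7 d (Multiset.mem_add.2 (Or.inl (Multiset.mem_add.2 (Or.inr this))))).1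
        · exact (g7 d (Multiset.mem_add.2 (Or.inr this))).1
      · have c2 := Multiset.card_le_card (Multiset.filter_le (fun d => pA d = true) (gM xs₂ y₂))
        have c3 := Multiset.card_le_card (Multiset.filter_le (fun d => pA d = true) (gM xs₃ y₃))
        simp only [gM, Multiset.card_add, Multiset.card_replicate, F₂.card, F₃.card] at c2 c3
        simp only [gM, fM, Multiset.card_add]
        omega
    rw [sub1] at hS
    simp only [Bool.not_true, Bool.false_or] at hS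
    obtain ⟨bs, hD3, hb⟩ := allT_find hS o₂ ho₂
    have e23 : Nat.sub (cM (fM pN (f + Wa))) (cM (fM pA (gM xs₁ y₁))) =
        cM (fM pA (gM xs₂ y₂) + fM pA (gM xs₃ y₃)) := by rw [← hA, sub_cM]
    have sub2 : subC (cM (fM pA (gM xs₂ y₂))) (cM (fM pA (gM xs₂ y₂) + fM pA (gM xs₃ y₃))) = true := by
      refine subC_add (fun d hd => (g7 d (Multiset.mem_add.2 (Or.inr (Multiset.mem_of_mem_filter hd)))).1) ?_
      have c3 := Multiset.card_le_card (Multiset.filter_le (fun d => pA d = true) (gM xs₃ y₃))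
      simp only [gM, Multiset.card_add, Multiset.card_replicate, F₃.card] at c3
      simp only [gM, fM]
      omega
    rw [e23, sub2, sub_cM] at hD3
    simp only [Bool.not_true, Bool.false_or] at hD3
    have h1 := allF_iff.1 (allF_iff.1 (allF_iff.1 hD3 o₃ ho₃) o₁ ha) o₂ hb
    have S3 : St.add (St.add o₁.st o₂.st) o₃.st =
        sM (↑([1] : List ℕ) + gM xs₁ y₁ + gM xs₂ y₂ + gM xs₃ y₃) := by
      rw [st₁, st₂, st₃]
      simp only [Multiset.coe_nil, zero_add, sM_add]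
    have hcq : Nat.beq (Nat.mod (Nat.add (Nat.add o₁.cq o₂.cq) o₃.cq) 1764) 0 = true := by
      rw [beq_iff]
      show (o₁.cq + o₂.cq + o₃.cq) % 1764 = 0
      simp only [Multiset.coe_nil, zero_add] at cq₂ cq₃
      omega
    rw [S3, le1 (k := fM pZ (f + (Wb + Wa)) + fM pZ T + R) (by rw [hsplit]; abel), hcq] at h1
    simp only [Bool.not_true, Bool.false_or] at h1
    have h2 := allF_iff.1 h1 _ hw
    have cbsum : Nat.add (Nat.add o₁.cb o₂.cb) o₃.cb = cM (fM pN Wb + fM pN T) := by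
      rw [cb₁, cb₂, cb₃, ← hB, cM_add, cM_add]
      rfl
    have subW : subC (cM (fM pN Wb)) (cM (fM pN Wb + fM pN T)) = true := by
      refine subC_add (fun d hd => ?_) ?_
      · exact (mem_cands.1 (hT' d (Multiset.mem_of_mem_filter hd))).1
      · have := Multiset.card_le_card (Multiset.filter_le (fun d => pN d = true) T)
        simp only [fM]
        omega
    simp only [cbsum, subW, sub_cM, ← sM_add] at h2
    rw [le1 (k := fM pZ T + R) (by rw [hsplit]; abel)] at h2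
    simp only [Bool.not_true, Bool.false_or] at h2
    have h3 := allF_iff.1 h2 _ ht
    simp only [← sM_add] at h3
    rw [le1 (k := R) hsplit] at h3
    have hsum : sM (1 ::ₘ D') = St.add
        (sM (↑([1] : List ℕ) + gM xs₁ y₁ + gM xs₂ y₂ + gM xs₃ y₃ + fM pZ (f + (Wb + Wa)) + fM pZ T)) (sM R) := by
      rw [← sM_add, ← hsplit]
    have q1 := hD.sq
    have q2 := hD.x23
    have q3 := hD.y23
    have q4 := hD.x11
    rw [hsum] at q1 q2 q3 q4
    obtain ⟨hc, hc23, hbad⟩ := compl_ok hR q1 q2 q3 q4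
    rw [hc] at h3
    simp only [Bool.not_true, Bool.false_or, Bool.or_false, smallS, Bool.and_eq_true, beq_iff] at h3
    constructor
    · rw [← count_eq, hsum]
      show (sM _).c23 + (sM R).c23 = 1
      omega
    · intro d hd hle
      have hb0 : (sM (1 ::ₘ D')).bad = 0 := by
        rw [hsum]
        show (sM _).bad + (sM R).bad = 0
        omega
      have hd0 : b2n (isBad d) = 0 :=
        Multiset.sum_eq_zero_iff.1 hb0 _ (Multiset.mem_map.2 ⟨d, hd, rfl⟩)
      cases hbd : isBad d with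
      | true => rw [hbd] at hd0; cases hd0
      | false =>
        by_contra hne
        simp only [not_or] at hne
        have hb : ∀ c, d ≠ c → Nat.beq d c = false := fun c h => by rwa [Bool.eq_false_iff, ne_eq, beq_iff]
        rw [isBad, ble_iff.2 hle, hb 1 hne.1, hb 23 hne.2.1, hb 45 hne.2.2.1, hb 231 hne.2.2.2.1,
          hb 252 hne.2.2.2.2.1, hb 253 hne.2.2.2.2.2] at hbd
        exact Bool.noConfusion hbd
  -- the lists
  have inD : ∀ d ∈ f, d ∈ D' → d ∈ cands 5 1 := fun d hd hd' =>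
    mem_cands.2 ⟨(hD' d hd').1, hfp d hd, (hD' d hd').2⟩
  have hlist : ∀ W : Multiset ℕ, fM p5 D' = f + W + T →
      limS (sM (1 ::ₘ (f + W))) = true ∧ limS (sM W) = true ∧ (∀ d ∈ W, d ∈ pool ∧ 2 ≤ d) ∧
        ∃ lf ∈ listF, (↑lf : Multiset ℕ) = f := by
    intro W e5
    have hle : f + W ≤ D' := le_trans (e5 ▸ Multiset.le_add_right (f + W) T) (Multiset.filter_le _ _)
    have hl : limS (sM (1 ::ₘ (f + W))) = true := limS_le (Multiset.cons_le_cons 1 hle) hlimD
    have hWD : W ≤ D' := le_trans (Multiset.le_add_left _ _) hle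
    have hfD : f ≤ D' := le_trans (Multiset.le_add_right _ _) hle
    refine ⟨hl, limS_le (le_trans hWD (Multiset.le_cons_self _ _)) hlimD,
      fun d hd => hD' d (Multiset.mem_of_le hWD hd), ?_⟩
    refine checkU_spec listF_ok hfc (fun d hd => inD d hd (Multiset.mem_of_le hfD hd)) hfr ?_
    refine limS_le ?_ hlimD
    rw [Multiset.coe_singleton, Multiset.singleton_add]
    exact Multiset.cons_le_cons 1 hfD
  rcases hcase with ⟨w, y, hwc, hwp, hyp, hwr, e5⟩ | ⟨q, hqc, hqp, hqr, e5⟩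
  · rw [fM, Multiset.filter_cons_of_pos (s := D') (by rfl), Multiset.cons_inj_right] at e5
    obtain ⟨hl, hlW, hWm, lf, hlf, rfl⟩ := hlist (gM w y) e5
    have hy' : y ∈ gM w y := Multiset.mem_add.2 (Or.inr (Multiset.mem_replicate.2 ⟨by norm_num, rfl⟩))
    obtain ⟨o, ho, rfl, rfl⟩ := checkW_spec listW_ok hwc
      (fun d hd => mem_cands.2 ⟨(hWm d (Multiset.mem_add.2 (Or.inl hd))).1, hwp d hd,
        (hWm d (Multiset.mem_add.2 (Or.inl hd))).2⟩)
      (mem_cands.2 ⟨(hWm y hy').1, hyp, (hWm y hy').2⟩) hwr hlW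
    refine key ↑o.1 (Multiset.replicate 2 o.2) (fun d hd => ?_) hwp e5 (checkFW_spec storedFW_ok hlf ho hl)
    rw [Multiset.eq_of_mem_replicate hd]
    exact hyp
  · rw [fM, Multiset.filter_cons_of_pos (s := D') (by rfl), Multiset.cons_inj_right] at e5
    obtain ⟨hl, hlW, hWm, lf, hlf, rfl⟩ := hlist (q + q) e5
    obtain ⟨lq, hlq, rfl⟩ := checkFive_spec listQ_ok hqc
      (fun d hd => mem_cands.2 ⟨(hWm d (Multiset.mem_add.2 (Or.inl hd))).1, hqp d hd,
        (hWm d (Multiset.mem_add.2 (Or.inl hd))).2⟩) hqr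
      (limS_le (Multiset.le_add_right _ _) hlW)
    refine key 0 (↑lq + ↑lq) (fun d hd => ?_) (fun d hd => absurd hd (Multiset.notMem_zero d))
      (by rw [zero_add]; exact e5) ?_
    · rcases Multiset.mem_add.1 hd with h | h <;> exact hqp d h
    · have := checkFQ_spec storedFQ_ok hlf hlq hl
      rwa [zero_add, show fM pN (0 : Multiset ℕ) = 0 from Multiset.filter_zero _]

end

end Cfsg.Agent.M24Join
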