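import Cfsg.Agent.Lib.M24Join.Defs

/-!
The functions evaluated by the kernel in the join, expressed through sums over multisets.
-/

namespace Cfsg.Agent.M24Join

open Cfsg.Agent.Golay.Local (allF anyF allF_iff anyF_iff)
open Cfsg.Agent.M12Uniq (multiCombos)

noncomputable section

theorem beq_iff {a b : ℕ} : Nat.beq a b = true ↔ a = b :=
  ⟨Nat.eq_of_beq_eq_true, fun h => h ▸ Nat.beq_refl a⟩

theorem ble_iff {a b : ℕ} : Nat.ble a b = true ↔ a ≤ b :=
  ⟨Nat.le_of_ble_eq_true, Nat.ble_eq_true_of_le⟩

theorem anyUpTo_of {f : ℕ → Bool} : ∀ {n i : ℕ}, i ≤ n → f i = true → anyUpTo f n = true := by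
  intro n
  induction n with
  | zero =>
    intro i hi h
    obtain rfl : i = 0 := by omega
    exact h
  | succ n ih =>
    intro i hi h
    show (bif f (n + 1) then true else anyUpTo f n) = true
    cases hf : f (n + 1)
    · refine ih (i := i) ?_ h
      rcases Nat.lt_or_eq_of_le hi with hlt | rfl
      · omega
      · rw [hf] at h; cases h
    · rfl

/-! ### Trees -/

theorem allT_find {α : Type} {g : ℕ → List α → Bool} {q : ℕ} :
    ∀ {t : Tree α}, t.allT g = true → ∀ x ∈ t.find q, ∃ vs, g q vs = true ∧ x ∈ vs := by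
  intro t
  induction t with
  | leaf => intro _ x hx; exact absurd hx List.not_mem_nil
  | node k v l r ihl ihr =>
    intro h x hx
    change (g k v && l.allT g && r.allT g) = true at h
    simp only [Bool.and_eq_true] at h
    obtain ⟨⟨hv, hl⟩, hr⟩ := h
    change x ∈ (bif Nat.beq q k then v else bif Nat.ble q k then l.find q else r.find q) at hx
    cases hq : Nat.beq q k with
    | true =>
      rw [hq] at hx
      obtain rfl : q = k := beq_iff.1 hq
      exact ⟨v, hv, hx⟩
    | false =>
      rw [hq] at hx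
      cases hle : Nat.ble q k with
      | true => rw [hle] at hx; exact ihl hl x hx
      | false => rw [hle] at hx; exact ihr hr x hx

/-! ### Statistics -/

/-- The statistics of a multiset. -/
def sM (m : Multiset ℕ) : St :=
  ⟨(m.map fun d => d * d).sum, (m.map fun d => b2n (pm 23 1 d)).sum, (m.map fun d => b2n (pm 23 11 d)).sum,
    (m.map fun d => b2n (pm 11 1 d)).sum, (m.map fun d => b2n (Nat.beq d 23)).sum,
    (m.map fun d => b2n (isBad d)).sum⟩

theorem St.ext' {a b : St} (h1 : a.sq = b.sq) (h2 : a.x23 = b.x23) (h3 : a.y23 = b.y23) (h4 : a.x11 = b.x11)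
    (h5 : a.c23 = b.c23) (h6 : a.bad = b.bad) : a = b := by
  cases a; cases b; simp_all

theorem sM_add (a b : Multiset ℕ) : sM (a + b) = St.add (sM a) (sM b) := by
  apply St.ext' <;> simp only [sM, St.add, Multiset.map_add, Multiset.sum_add] <;> rfl

theorem stL_eq : ∀ l : List ℕ, stL l = sM ↑l := by
  intro l
  induction l with
  | nil => rfl
  | cons d l ih =>
    show St.add (st1 d) (stL l) = _
    rw [ih, ← Multiset.cons_coe]
    apply St.ext' <;> simp only [sM, St.add, st1, Multiset.map_cons, Multiset.sum_cons] <;> rfl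

theorem St.eq_of_beq {a b : St} (h : St.beq a b = true) : a = b := by
  simp only [St.beq, Bool.and_eq_true, beq_iff] at h
  obtain ⟨⟨⟨⟨⟨h1, h2⟩, h3⟩, h4⟩, h5⟩, h6⟩ := h
  exact St.ext' h1 h2 h3 h4 h5 h6

theorem Opt.eq_of_beq {a b : Opt} (h : Opt.beq a b = true) : a = b := by
  simp only [Opt.beq, Bool.and_eq_true, beq_iff] at h
  obtain ⟨⟨h1, h2⟩, h3⟩ := h
  cases a; cases b
  simp only at h1 h2 h3
  rw [h1, St.eq_of_beq h2, h3]

theorem Grp.eq_of_beq {a b : Grp} (h : Grp.beq a b = true) : a = b := by
  simp only [Grp.beq, Bool.and_eq_true, beq_iff] at h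
  obtain ⟨h1, h2⟩ := h
  cases a; cases b
  simp only at h1 h2
  rw [h1, St.eq_of_beq h2]

theorem limS_mono {a b : St} (h : limS (St.add a b) = true) : limS a = true := by
  simp only [limS, St.add, Bool.and_eq_true, ble_iff, Nat.add_eq] at h ⊢
  omega

theorem limS_le {a b : Multiset ℕ} (hle : a ≤ b) (h : limS (sM b) = true) : limS (sM a) = true := by
  obtain ⟨c, rfl⟩ := Multiset.le_iff_exists_add.1 hle
  rw [sM_add] at h
  exact limS_mono h

/-! ### Codes -/

/-- The code of a multiset. -/
def cM (m : Multiset ℕ) : ℕ := (m.map pw).sum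

theorem cM_add (a b : Multiset ℕ) : cM (a + b) = cM a + cM b := by
  simp only [cM, Multiset.map_add, Multiset.sum_add]

theorem codeL_eq : ∀ l : List ℕ, codeL l = cM ↑l := by
  intro l
  induction l with
  | nil => rfl
  | cons d l ih =>
    show Nat.add (pw d) (codeL l) = _
    rw [ih, ← Multiset.cons_coe, cM, cM, Multiset.map_cons, Multiset.sum_cons]
    rfl

/-- A number given by fields of five bits. -/
def ofF : List ℕ → ℕ
  | [] => 0
  | x :: l => x + 32 * ofF l

theorem ofF_add (f g : ℕ → ℕ) : ∀ l : List ℕ,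
    ofF (l.map fun e => f e + g e) = ofF (l.map f) + ofF (l.map g) := by
  intro l
  induction l with
  | nil => rfl
  | cons e l ih => simp only [List.map_cons, ofF, ih]; ring

theorem ofF_zero : ∀ l : List ℕ, ofF (l.map fun _ => 0) = 0 := by
  intro l
  induction l with
  | nil => rfl
  | cons e l ih => simp only [List.map_cons, ofF, ih]

theorem ofF_unit : ∀ d ∈ pool, ofF (pool.map fun e => if e = d then 1 else 0) = pw d := by
  decide +kernel

theorem cM_eq_ofF {m : Multiset ℕ} (hm : ∀ d ∈ m, d ∈ pool) :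
    cM m = ofF (pool.map fun e => m.count e) := by
  induction m using Multiset.induction_on with
  | empty =>
    simp only [Multiset.count_zero]
    rw [ofF_zero]
    rfl
  | cons d m ih =>
    have hd := hm d (Multiset.mem_cons_self d m)
    have h := ih fun e he => hm e (Multiset.mem_cons_of_mem he)
    simp only [Multiset.count_cons]
    rw [ofF_add (fun e => m.count e) (fun e => if e = d then 1 else 0) pool, ← h, ofF_unit d hd]
    rw [cM, cM, Multiset.map_cons, Multiset.sum_cons]
    ring

theorem land_fields {x y : ℕ} (a b : ℕ) (hx : x < 32) (hy : y < 32) :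
    Nat.land (x + 32 * a) (y + 32 * b) = Nat.land x y + 32 * Nat.land a b := by
  show (x + 32 * a) &&& (y + 32 * b) = (x &&& y) + 32 * (a &&& b)
  have hxy : x &&& y < 2 ^ 5 := Nat.and_lt_two_pow x (by omega)
  rw [show (32 : ℕ) = 2 ^ 5 by rfl, add_comm x, add_comm y, add_comm (x &&& y)]
  apply Nat.eq_of_testBit_eq
  intro i
  rw [Nat.testBit_and, Nat.testBit_two_pow_mul_add a (by omega), Nat.testBit_two_pow_mul_add b (by omega),
    Nat.testBit_two_pow_mul_add (a &&& b) hxy]
  split <;> simp [Nat.testBit_and]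

theorem land_sixteen : ∀ x < 16, Nat.land (x + 16) 16 = 16 := by decide

theorem ofF_guard (f : ℕ → ℕ) : ∀ l : List ℕ, (∀ e ∈ l, f e < 16) →
    Nat.land (ofF (l.map f) + ofF (l.map fun _ => 16)) (ofF (l.map fun _ => 16)) =
      ofF (l.map fun _ => 16) := by
  intro l
  induction l with
  | nil => intro _; show (0 + 0 : ℕ) &&& 0 = 0; simp
  | cons e l ih =>
    intro h
    simp only [List.map_cons, ofF]
    have h1 := h e List.mem_cons_self
    rw [show f e + 32 * ofF (l.map f) + (16 + 32 * ofF (l.map fun _ => 16)) =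
      (f e + 16) + 32 * (ofF (l.map f) + ofF (l.map fun _ => 16)) by ring,
      land_fields _ _ (by omega) (by omega), land_sixteen _ h1, ih fun x hx => h x (List.mem_cons_of_mem _ hx)]

theorem guard_eq : ofF (pool.map fun _ => 16) = guard := by decide +kernel

theorem subC_add {a b : Multiset ℕ} (hb : ∀ d ∈ b, d ∈ pool) (hcard : Multiset.card b < 16) :
    subC (cM a) (cM (a + b)) = true := by
  rw [subC, beq_iff]
  show Nat.land (cM (a + b) + guard - cM a) guard = guard
  rw [cM_add, show cM a + cM b + guard - cM a = cM b + guard by omega, cM_eq_ofF hb, ← guard_eq]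
  exact ofF_guard _ _ fun e _ => lt_of_le_of_lt (Multiset.count_le_card e b) hcard

theorem sub_cM (a b : Multiset ℕ) : Nat.sub (cM (a + b)) (cM a) = cM b := by
  show cM (a + b) - cM a = cM b
  rw [cM_add]; omega

/-! ### Relations -/

/-- The signed sum over a multiset of rows. -/
def sS (p : ℕ) (h : ℕ → ℤ) (R : Multiset (ℕ × ℕ)) : ℤ := (R.map fun r => sgnZ p r.1 r.2 * h r.2).sum

/-- The three relations of a family. -/
def Rel (p : ℕ) (R : Multiset (ℕ × ℕ)) : Prop :=
  sS p (fun d => (d : ℤ)) R = 0 ∧ sS p u23 R = 0 ∧ sS p u11 R = 0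

theorem ssum_eq (p : ℕ) (h : ℕ → ℤ) : ∀ rows : List (ℕ × ℕ), ssum p h rows = sS p h ↑rows := by
  intro rows
  induction rows with
  | nil => rfl
  | cons r l ih =>
    show sgnZ p r.1 r.2 * h r.2 + ssum p h l = _
    rw [ih, ← Multiset.cons_coe, sS, sS, Multiset.map_cons, Multiset.sum_cons]

theorem ssum_id (p : ℕ) : ∀ rows : List (ℕ × ℕ),
    ssum p (fun d => (d : ℤ)) rows = 2 * (posD p rows : ℤ) - totD rows := by
  intro rows
  induction rows with
  | nil => rfl
  | cons r l ih =>
    show sgnZ p r.1 r.2 * (r.2 : ℤ) + ssum p (fun d => (d : ℤ)) l =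
      2 * ((Nat.add (bif Nat.beq (r.2 % p) r.1 then r.2 else 0) (posD p l) : ℕ) : ℤ) -
        ((Nat.add r.2 (totD l) : ℕ) : ℤ)
    rw [ih, sgnZ]
    cases hb : Nat.beq (r.2 % p) r.1 with
    | true =>
      rw [if_pos (beq_iff.1 hb)]
      simp only [cond_true, Nat.add_eq]
      push_cast
      ring
    | false =>
      rw [if_neg fun e => by rw [beq_iff.2 e] at hb; cases hb]
      simp only [cond_false, Nat.add_eq]
      push_cast
      ring

theorem rel3_iff {p : ℕ} {rows : List (ℕ × ℕ)} : rel3 p rows = true ↔ Rel p ↑rows := by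
  simp only [rel3, Rel, Bool.and_eq_true, beq_iff, decide_eq_true_eq, ← ssum_eq, ssum_id, Nat.mul_eq]
  constructor
  · rintro ⟨⟨h1, h2⟩, h3⟩
    exact ⟨by omega, h2, h3⟩
  · rintro ⟨h1, h2, h3⟩
    exact ⟨⟨by omega, h2⟩, h3⟩

/-! ### Congruence terms -/

/-- The congruence sum of a family. -/
def cqT (b : ℕ) (m : Multiset ℕ) (y : ℕ) : ℤ :=
  (m.map fun d => (4 * b * b : ℤ) * u11 d * (NN / d : ℕ)).sum + 2 * ((b * b : ℤ) * u11 y * (NN / y : ℕ))

theorem cqZ_eq (b : ℕ) (l : List ℕ) (y : ℕ) : (cqZ b l y : ℤ) = cqT b ↑l y % 1764 := by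
  have h : ∀ l : List ℕ, List.rec (0 : ℤ) (fun d _ ih => (4 * b * b : ℤ) * u11 d * (NN / d : ℕ) + ih) l =
      ((↑l : Multiset ℕ).map fun d => (4 * b * b : ℤ) * u11 d * (NN / d : ℕ)).sum := by
    intro l
    induction l with
    | nil => rfl
    | cons d l ih => rw [← Multiset.cons_coe, Multiset.map_cons, Multiset.sum_cons, ← ih]
  rw [cqZ, cqT, h, Int.toNat_of_nonneg (Int.emod_nonneg _ (by norm_num))]

/-! ### Filters -/

theorem coe_filter (f : ℕ → Bool) (l : List ℕ) :
    (↑(l.filter f) : Multiset ℕ) = Multiset.filter (fun d => f d = true) ↑l := by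
  rw [Multiset.filter_coe]
  simp

/-- The predicate of `selA`. -/
def pA (d : ℕ) : Bool := !(Nat.beq (d % 7) 0) && pm 5 1 d

/-- The predicate of `selB`. -/
def pB (d : ℕ) : Bool := !(Nat.beq (d % 7) 0) && pm 5 2 d

/-- Prime to 7. -/
def pN (d : ℕ) : Bool := !(Nat.beq (d % 7) 0)

/-- Divisible by 7. -/
def pZ (d : ℕ) : Bool := Nat.beq (d % 7) 0

/-- The members selected by a test. -/
abbrev fM (f : ℕ → Bool) (m : Multiset ℕ) : Multiset ℕ := Multiset.filter (fun d => f d = true) m

theorem selA_eq (l : List ℕ) : (↑(selA l) : Multiset ℕ) = fM pA ↑l := coe_filter _ l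

theorem selB_eq (l : List ℕ) : (↑(selB l) : Multiset ℕ) = fM pB ↑l := coe_filter _ l

theorem nz7_eq (l : List ℕ) : (↑(nz7 l) : Multiset ℕ) = fM pN ↑l := coe_filter _ l

theorem z7_eq (l : List ℕ) : (↑(z7 l) : Multiset ℕ) = fM pZ ↑l := coe_filter _ l

theorem mem_cands {p a d : ℕ} : d ∈ cands p a ↔ d ∈ pool ∧ pm p a d = true ∧ 2 ≤ d := by
  simp only [cands, List.mem_filter, Bool.and_eq_true, ble_iff]

theorem beqL_eq : ∀ {l m : List ℕ}, beqL l m = true → l = m := by
  intro l
  induction l with
  | nil =>
    intro m h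
    cases m with
    | nil => rfl
    | cons b m => exact absurd (show false = true from h) (by decide)
  | cons a l ih =>
    intro m h
    cases m with
    | nil => exact absurd (show false = true from h) (by decide)
    | cons b m =>
      change (Nat.beq a b && beqL l m) = true at h
      simp only [Bool.and_eq_true, beq_iff] at h
      rw [h.1, ih h.2]

theorem ins_perm (x : ℕ) : ∀ l : List ℕ, (↑(ins x l) : Multiset ℕ) = x ::ₘ ↑l := by
  intro l
  induction l with
  | nil => rfl
  | cons a t ih =>
    show (↑(bif Nat.ble x a then x :: a :: t else a :: ins x t) : Multiset ℕ) = _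
    cases Nat.ble x a with
    | true => rfl
    | false =>
      simp only [cond_false, ← Multiset.cons_coe]
      rw [ih, Multiset.cons_swap]

theorem allBelowR_spec {f : ℕ → Bool} : ∀ {n : ℕ}, scan.allBelowR f n = true → ∀ i ≤ n, f i = true := by
  intro n
  induction n with
  | zero =>
    intro h i hi
    obtain rfl : i = 0 := by omega
    exact h
  | succ n ih =>
    intro h i hi
    change (bif f (n + 1) then scan.allBelowR f n else false) = true at h
    cases hf : f (n + 1) with
    | false => rw [hf] at h; cases h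
    | true =>
      rw [hf] at h
      rcases Nat.lt_or_eq_of_le hi with hlt | rfl
      · exact ih h i (by omega)
      · exact hf

/-- The positive total of members of one residue. -/
def posA (p a : ℕ) (m : Multiset ℕ) : ℕ := (m.map fun d => if d % p = a then d else 0).sum

theorem posA_replicate (p a d j : ℕ) :
    posA p a (Multiset.replicate j d) = bif Nat.beq (d % p) a then j * d else 0 := by
  rw [posA, Multiset.map_replicate, Multiset.sum_replicate, smul_eq_mul]
  cases hb : Nat.beq (d % p) a with
  | true => rw [if_pos (beq_iff.1 hb)]; rfl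
  | false => rw [if_neg fun e => by rw [beq_iff.2 e] at hb; cases hb]; simp

theorem scan_spec {p a : ℕ} {leaf : ℕ → ℕ → List ℕ → Bool} : ∀ (l : List ℕ) (k P T : ℕ) (acc : List ℕ),
    scan p a leaf l k P T acc = true → ∀ t ∈ multiCombos l k,
      leaf (P + posA p a ↑t) (T + t.sum) (acc ++ t) = true := by
  intro l
  induction l with
  | nil =>
    intro k P T acc h t ht
    change (!(Nat.beq k 0) || leaf P T acc) = true at h
    by_cases hk : k = 0
    · subst hk
      simp only [multiCombos, if_pos, List.mem_singleton] at ht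
      subst ht
      simpa [posA, Nat.beq_refl] using h
    · simp [multiCombos, hk] at ht
  | cons d l ih =>
    intro k P T acc h t ht
    simp only [multiCombos, List.mem_flatMap, List.mem_map, List.mem_range] at ht
    obtain ⟨j, hj, t', ht', rfl⟩ := ht
    change scan.allBelowR (fun j => scan p a leaf l (k - j)
      (Nat.add P (bif Nat.beq (d % p) a then j * d else 0)) (Nat.add T (j * d))
      (acc ++ List.replicate j d)) k = true at h
    have h2 := ih _ _ _ _ (allBelowR_spec h j (by omega)) t' ht'
    rw [← Multiset.coe_add, posA, Multiset.map_add, Multiset.sum_add, Multiset.coe_replicate]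
    simp only [Nat.add_eq] at h2
    rw [← posA_replicate, List.append_assoc, posA, posA, add_assoc, add_assoc] at h2
    rwa [List.sum_append, List.sum_replicate, smul_eq_mul]

end

end Cfsg.Agent.M24Join
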